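import Mathlib
import Cfsg.Prelude.Def_GeometricClasses
import Cfsg.Agent.Lib.Helper27.ASC.Defs
import Cfsg.Agent.Lib.Helper19.ASG.Defs
import Cfsg.Agent.Lib.Helper18.ASP.Defs
import Cfsg.Agent.Lib.Helper1.ASGCLIF5

/-!
# Project ASP (helper18), block AB (sub-leader helper21) : shared vocabulary

* `IsAdjFor f star` : `star` is an adjoint map for `f` on matrices, `f (x u) v = f u (star x v)`;
  for a symplectic (non-degenerate, skew) `f` it is unique, anti-multiplicative, linear, involutive, and
  `star g = g⁻¹` on `isoGL f` (lemmas `aspab_star_*`, all proved from `aspab_ext`);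
* `aspZ0 hf hs hNI` : the `star`-fixed part `Z₀` of the centre `asgZ N` of `centAlg N`, a subalgebra, stable
  under conjugation by `H`;
* `aspab_quad_of_polar` : a map `Q` with `Q (c v) = c² Q v` and polar form `f` is a non-degenerate quadratic form.
-/

set_option autoImplicit false
set_option linter.unusedVariables false
set_option linter.unusedSectionVars false

namespace Cfsg.Agent.Lib.Helper18.ASP

open Cfsg Cfsg.Geo Cfsg.Agent.Lib.Helper27.ASC Cfsg.Agent.Lib.Helper19.ASG
open scoped MatrixGroups Matrix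

variable {n : ℕ} {F : Type*} [Field F] [Fintype F]

/-- `star` is an adjoint map for the form `f` -/
def IsAdjFor (f : (Fin n → F) → (Fin n → F) → F)
    (star : Matrix (Fin n) (Fin n) F → Matrix (Fin n) (Fin n) F) : Prop :=
  ∀ (x : Matrix (Fin n) (Fin n) F) (u v : Fin n → F), f (x *ᵥ u) v = f u (star x *ᵥ v)

section star

variable {f : (Fin n → F) → (Fin n → F) → F}
  {star : Matrix (Fin n) (Fin n) F → Matrix (Fin n) (Fin n) F}

theorem aspab_zero_right (hf : IsSymplecticForm f) (u : Fin n → F) : f u 0 = 0 := by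
  have := hf.bilinear.smul_right 0 u 0
  simpa using this

theorem aspab_zero_left (hf : IsSymplecticForm f) (u : Fin n → F) : f 0 u = 0 := by
  have := hf.bilinear.smul_left 0 0 u
  simpa using this

theorem aspab_neg_right (hf : IsSymplecticForm f) (u v : Fin n → F) : f u (-v) = - f u v := by
  have := hf.bilinear.smul_right (-1) u v
  simpa using this

theorem aspab_sub_right (hf : IsSymplecticForm f) (u v w : Fin n → F) :
    f u (v - w) = f u v - f u w := by
  rw [sub_eq_add_neg, hf.bilinear.add_right, aspab_neg_right hf, ← sub_eq_add_neg]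

/-- a vector right-orthogonal to everything is zero -/
theorem aspab_eq_zero (hf : IsSymplecticForm f) {w : Fin n → F} (h : ∀ u, f u w = 0) : w = 0 := by
  by_contra hw
  obtain ⟨⟨x, hx⟩, _⟩ := hf.nondegenerate w hw
  exact hx (h x)

/-- uniqueness of adjoints -/
theorem aspab_ext (hf : IsSymplecticForm f) {A B : Matrix (Fin n) (Fin n) F}
    (h : ∀ u v, f u (A *ᵥ v) = f u (B *ᵥ v)) : A = B := by
  apply Matrix.toLin'.injective
  apply LinearMap.ext
  intro v
  rw [Matrix.toLin'_apply, Matrix.toLin'_apply]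
  have h0 : A *ᵥ v - B *ᵥ v = 0 := by
    apply aspab_eq_zero hf
    intro u
    rw [aspab_sub_right hf, h u v, sub_self]
  exact sub_eq_zero.mp h0

theorem aspab_star_mul (hf : IsSymplecticForm f) (hs : IsAdjFor f star)
    (x y : Matrix (Fin n) (Fin n) F) : star (x * y) = star y * star x := by
  apply aspab_ext hf
  intro u v
  rw [← hs, ← Matrix.mulVec_mulVec, hs x, hs y, Matrix.mulVec_mulVec]

theorem aspab_star_add (hf : IsSymplecticForm f) (hs : IsAdjFor f star)
    (x y : Matrix (Fin n) (Fin n) F) : star (x + y) = star x + star y := by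
  apply aspab_ext hf
  intro u v
  rw [← hs, Matrix.add_mulVec, hf.bilinear.add_left, Matrix.add_mulVec, hf.bilinear.add_right, hs, hs]

theorem aspab_star_smul (hf : IsSymplecticForm f) (hs : IsAdjFor f star) (c : F)
    (x : Matrix (Fin n) (Fin n) F) : star (c • x) = c • star x := by
  apply aspab_ext hf
  intro u v
  rw [← hs, Matrix.smul_mulVec, hf.bilinear.smul_left, Matrix.smul_mulVec, hf.bilinear.smul_right, hs]

theorem aspab_star_one (hf : IsSymplecticForm f) (hs : IsAdjFor f star) :
    star (1 : Matrix (Fin n) (Fin n) F) = 1 := by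
  apply aspab_ext hf
  intro u v
  rw [← hs, Matrix.one_mulVec, Matrix.one_mulVec]

theorem aspab_star_zero (hf : IsSymplecticForm f) (hs : IsAdjFor f star) :
    star (0 : Matrix (Fin n) (Fin n) F) = 0 := by
  have := aspab_star_smul hf hs 0 (0 : Matrix (Fin n) (Fin n) F)
  simpa using this

theorem aspab_star_neg (hf : IsSymplecticForm f) (hs : IsAdjFor f star)
    (x : Matrix (Fin n) (Fin n) F) : star (-x) = - star x := by
  have := aspab_star_smul hf hs (-1) x
  simpa using this

theorem aspab_star_sub (hf : IsSymplecticForm f) (hs : IsAdjFor f star)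
    (x y : Matrix (Fin n) (Fin n) F) : star (x - y) = star x - star y := by
  rw [sub_eq_add_neg, aspab_star_add hf hs, aspab_star_neg hf hs, ← sub_eq_add_neg]

/-- the other adjunction: `f u (x v) = f (star x u) v` -/
theorem aspab_adj' (hf : IsSymplecticForm f) (hs : IsAdjFor f star)
    (x : Matrix (Fin n) (Fin n) F) (u v : Fin n → F) : f u (x *ᵥ v) = f (star x *ᵥ u) v := by
  rw [hf.skew u (x *ᵥ v), hs, ← hf.skew]

theorem aspab_star_star (hf : IsSymplecticForm f) (hs : IsAdjFor f star)
    (x : Matrix (Fin n) (Fin n) F) : star (star x) = x := by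
  apply aspab_ext hf
  intro u v
  rw [← hs, ← aspab_adj' hf hs]

theorem aspab_star_injective (hf : IsSymplecticForm f) (hs : IsAdjFor f star) :
    Function.Injective star := by
  intro x y hxy
  rw [← aspab_star_star hf hs x, hxy, aspab_star_star hf hs]

/-- on the isometry group, `star g = g⁻¹` -/
theorem aspab_star_unit (hf : IsSymplecticForm f) (hs : IsAdjFor f star) (g : GL (Fin n) F)
    (hg : g ∈ isoGL f) :
    star (g : Matrix (Fin n) (Fin n) F) = ((g⁻¹ : GL (Fin n) F) : Matrix (Fin n) (Fin n) F) := by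
  apply aspab_ext hf
  intro u v
  rw [← hs]
  have h1 := (mem_isoGL_iff f g).1 hg u (((g⁻¹ : GL (Fin n) F) : Matrix (Fin n) (Fin n) F) *ᵥ v)
  rw [Matrix.mulVec_mulVec, ← Units.val_mul, mul_inv_cancel, Units.val_one, Matrix.one_mulVec] at h1
  exact h1

/-- `star` commutes with conjugation by isometries -/
theorem aspab_star_conj (hf : IsSymplecticForm f) (hs : IsAdjFor f star) (h : GL (Fin n) F)
    (hh : h ∈ isoGL f) (x : Matrix (Fin n) (Fin n) F) : star (asgConj h x) = asgConj h (star x) := by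
  unfold asgConj
  rw [aspab_star_mul hf hs, aspab_star_mul hf hs, aspab_star_unit hf hs h hh,
    aspab_star_unit hf hs h⁻¹ ((isoGL f).inv_mem hh), inv_inv, Matrix.mul_assoc]

/-- the centraliser algebra of a group of isometries is `star`-stable -/
theorem aspab_star_centAlg (hf : IsSymplecticForm f) (hs : IsAdjFor f star)
    {N : Subgroup (GL (Fin n) F)} (hNI : N ≤ isoGL f) {x : Matrix (Fin n) (Fin n) F}
    (hx : x ∈ centAlg N) : star x ∈ centAlg N := by
  rw [Subalgebra.mem_centralizer_iff] at hx ⊢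
  rintro _ ⟨g, hg, rfl⟩
  have h1 := hx _ ⟨g⁻¹, N.inv_mem hg, rfl⟩
  have h2 := congrArg star h1
  rw [aspab_star_mul hf hs, aspab_star_mul hf hs, aspab_star_unit hf hs g⁻¹ (hNI (N.inv_mem hg)),
    inv_inv] at h2
  exact h2.symm

/-- the centre of the centraliser algebra is `star`-stable -/
theorem aspab_star_Z (hf : IsSymplecticForm f) (hs : IsAdjFor f star)
    {N : Subgroup (GL (Fin n) F)} (hNI : N ≤ isoGL f) {z : Matrix (Fin n) (Fin n) F}
    (hz : z ∈ asgZ N) : star z ∈ asgZ N := by
  obtain ⟨hz1, hz2⟩ := asgclif_mem_Z.mp hz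
  refine asgclif_mem_Z.mpr ⟨aspab_star_centAlg hf hs hNI hz1, fun c hc => ?_⟩
  have h1 := hz2 _ (aspab_star_centAlg hf hs hNI hc)
  have h2 := congrArg star h1
  rw [aspab_star_mul hf hs, aspab_star_mul hf hs, aspab_star_star hf hs] at h2
  exact h2.symm

/-- the `star`-fixed part of the centre `asgZ N` of `centAlg N` -/
def aspZ0 (hf : IsSymplecticForm f) (hs : IsAdjFor f star) (N : Subgroup (GL (Fin n) F)) :
    Subalgebra F (Matrix (Fin n) (Fin n) F) where
  carrier := {z | z ∈ asgZ N ∧ star z = z}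
  mul_mem' := by
    rintro a b ⟨ha, ha'⟩ ⟨hb, hb'⟩
    refine ⟨Subalgebra.mul_mem _ ha hb, ?_⟩
    rw [aspab_star_mul hf hs, ha', hb', asgclif_Z_comm hb ha]
  add_mem' := by
    rintro a b ⟨ha, ha'⟩ ⟨hb, hb'⟩
    exact ⟨Subalgebra.add_mem _ ha hb, by rw [aspab_star_add hf hs, ha', hb']⟩
  algebraMap_mem' := by
    intro c
    refine ⟨Subalgebra.algebraMap_mem _ c, ?_⟩
    rw [Algebra.algebraMap_eq_smul_one, aspab_star_smul hf hs, aspab_star_one hf hs]

theorem aspab_mem_Z0 (hf : IsSymplecticForm f) (hs : IsAdjFor f star) (N : Subgroup (GL (Fin n) F))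
    (z : Matrix (Fin n) (Fin n) F) : z ∈ aspZ0 hf hs N ↔ z ∈ asgZ N ∧ star z = z := Iff.rfl

theorem aspab_Z0_le (hf : IsSymplecticForm f) (hs : IsAdjFor f star) (N : Subgroup (GL (Fin n) F)) :
    aspZ0 hf hs N ≤ asgZ N := fun z hz => hz.1

theorem aspab_Z0_comm (hf : IsSymplecticForm f) (hs : IsAdjFor f star) (N : Subgroup (GL (Fin n) F))
    {x y : Matrix (Fin n) (Fin n) F} (hx : x ∈ aspZ0 hf hs N) (hy : y ∈ aspZ0 hf hs N) :
    x * y = y * x := asgclif_Z_comm hx.1 hy.1

/-- `Z₀` is stable under conjugation by `H` -/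
theorem aspab_Z0_conj (hf : IsSymplecticForm f) (hs : IsAdjFor f star)
    {H N : Subgroup (GL (Fin n) F)} (hI : H ≤ isoGL f) (hN : NormalIn N H) (h : GL (Fin n) F)
    (hh : h ∈ H) (z : Matrix (Fin n) (Fin n) F) (hz : z ∈ aspZ0 hf hs N) :
    asgConj h z ∈ aspZ0 hf hs N :=
  ⟨asgclif_conj_mem hN h hh z hz.1, by rw [aspab_star_conj hf hs h (hI hh), hz.2]⟩

/-- `H` normalises `Z₀` -/
theorem aspab_normalizes_Z0 (hf : IsSymplecticForm f) (hs : IsAdjFor f star)
    {H N : Subgroup (GL (Fin n) F)} (hI : H ≤ isoGL f) (hN : NormalIn N H) :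
    H ≤ subalgebraNormalizer (aspZ0 hf hs N) := by
  intro h hh k
  constructor
  · exact aspab_Z0_conj hf hs hI hN h hh k
  · intro hk
    have h2 := aspab_Z0_conj hf hs hI hN h⁻¹ (H.inv_mem hh) _ hk
    have e3 : asgConj h⁻¹ ((h : Matrix (Fin n) (Fin n) F) * k *
        ((h⁻¹ : GL (Fin n) F) : Matrix (Fin n) (Fin n) F)) = k := asgclif_conj_inv_conj h k
    rw [e3] at h2
    exact h2

end star

/-- a map with `Q (c v) = c² Q v` whose polar form is the symplectic form `f` is a non-degenerate quadratic form -/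
theorem aspab_quad_of_polar {f : (Fin n → F) → (Fin n → F) → F} (hf : IsSymplecticForm f)
    (Q : (Fin n → F) → F) (hsm : ∀ (c : F) (v : Fin n → F), Q (c • v) = c ^ 2 * Q v)
    (hpol : ∀ u v, QuadraticMap.polar Q u v = f u v) : IsNondegenerateQuadraticForm Q := by
  have e : QuadraticMap.polar Q = f := by
    funext u v
    exact hpol u v
  refine ⟨hsm, ?_, ?_⟩
  · rw [e]; exact hf.bilinear
  · rw [e]; exact hf.nondegenerate

end Cfsg.Agent.Lib.Helper18.ASP
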